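import Cfsg.Agent.Lib.MT.Fi
import Cfsg.Agent.Lib.M3.Nodes

/-! # The nodes of `Y₅₅₃` in an abstract group -/

set_option autoImplicit false

namespace Cfsg.Lib.Griess.MT

open Spor.Bimonster Subgroup Matrix Cfsg.Lib.M3

variable [MQ] [MN]

/-- The nodes of `Y₅₅₃` in `M1`; `d₃ = ± x_O`, the white node `u` has the octad `oc u`. -/
structure Nodes extends FiNodes where
  /-- the octad of `d₃` -/
  O : Cd
  /-- the sign of `d₃` -/
  s : ZMod 2
  /-- the octads of the white nodes -/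
  oc : Gen → Cd
  wtO : wt O = 8
  d3 : y .d3 = xq s O
  wt_oc : ∀ u ∈ white, wt (oc u) = 8
  comm_iff : ∀ u ∈ white, ∀ i, Commute (y u) (bq (Griess.e1 i)) ↔ (oc u : Griess.W) i = 1
  conj_z : ∀ u ∈ white, ∃ t, y u * zA * y u = xq t (oc u + Om)
  cox3 : Cox (Y 5 5 3) y
  f3 : f312 y = 1
  mem : ∀ n, y n ∈ M1
  gen3 : M1 ≤ gp (Y 5 5 3) y

namespace FiNodes

variable (F : FiNodes)

theorem pt_inj {m n : Gen} (hm : m ∈ black) (hn : n ∈ black) (h : F.pt m = F.pt n) : m = n :=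
  F.nd m (mem_of_black m hm) n (mem_of_black n hn) (by rw [F.blk m hm, F.blk n hn, h])

theorem nodup {l : List Gen} (h : l.Nodup ∧ ∀ n ∈ l, n ∈ black) : (l.map F.pt).Nodup :=
  h.1.map_on fun m hm n hn => F.pt_inj (h.2 m hm) (h.2 n hn)

theorem comm_pt {u n : Gen} (h : u ∈ white ∧ n ∈ black) :
    Commute (F.y u) (bq (Griess.e1 (F.pt n))) ↔ Spor.coxLabel edges u n = 2 := by
  rw [← F.blk n h.2]
  refine ⟨fun k => ?_, F.cox.comm (mem_of_white u h.1) (mem_of_black n h.2)⟩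
  obtain ⟨h1, h2 | h2⟩ := (by decide : ∀ u ∈ white, ∀ n ∈ black, u ≠ n ∧
    (Spor.coxLabel edges u n = 2 ∨ Spor.coxLabel edges u n = 3)) u h.1 n h.2
  · exact h2
  have := F.cox.braid (mem_of_white u h.1) (mem_of_black n h.2) h2
  rw [k.eq, mul_assoc, F.cox.sq (mem_of_white u h.1), ← k.eq, mul_assoc, F.cox.sq (mem_of_black n h.2), mul_left_inj] at this
  exact absurd (F.nd _ (mem_of_white u h.1) _ (mem_of_black n h.2) this.symm) h1

theorem wh {u : Gen} (h : u ∈ white) : Wh (F.y u) := by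
  obtain ⟨n, hn, k⟩ := (by decide : ∀ u ∈ white, ∃ n ∈ black, Spor.coxLabel edges u n ≠ 2) u h
  refine ⟨F.cox.sq (mem_of_white u h), F.inv u (mem_of_white u h), F.wht u h, ?_,
    fun i e => k ((F.comm_pt ⟨h, hn⟩).1 (by rw [e]; exact bq_comm _ _)), _, mt (F.comm_pt ⟨h, hn⟩).1 k⟩
  have key {i j k l m} (n : [i, j, k, l, m].Nodup ∧ ∀ n ∈ [i, j, k, l, m], n ∈ black)
      (c : ∀ n ∈ [i, j, k, l, m], Spor.coxLabel edges u n = 2) :
      ∃ i j k l m, [i, j, k, l, m].Nodup ∧ ∀ x ∈ [i, j, k, l, m], Commute (F.y u) (bq (Griess.e1 x)) :=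
    ⟨_, _, _, _, _, F.nodup n, (List.forall_mem_map (f := F.pt) (l := [i, j, k, l, m])).2 fun x hx => (F.comm_pt ⟨h, n.2 x hx⟩).2 (c x hx)⟩
  simp only [white, List.mem_cons, List.not_mem_nil, or_false] at h
  rcases h with rfl | rfl | rfl | rfl | rfl | rfl
  · obtain ⟨j, j1, j2, j3, j4⟩ := F.fifth
    have j5 {n} (hn : n ∈ black ∧ Spor.coxLabel edges .e2 n ≠ 2) : j ≠ F.pt n :=
      fun e => hn.2 ((F.comm_pt ⟨by decide, hn.1⟩).1 (by rw [← e]; exact j4))
    refine ⟨j, _, _, _, _, List.nodup_cons.2 ⟨?_, F.nodup (l := [.d1, .f1, .d2, .f2]) (by decide)⟩,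
      List.forall_mem_cons.2 ⟨j3, (List.forall_mem_map (f := F.pt) (l := [.d1, .f1, .d2, .f2])).2 fun x hx => ?_⟩⟩
    · simp [j1, j2, j5 (n := .d2) (by decide), j5 (n := .f2) (by decide)]
    · have := (by decide : ∀ x ∈ [Gen.d1, .f1, .d2, .f2], x ∈ black ∧ Spor.coxLabel edges .a x = 2) x hx
      exact (F.comm_pt ⟨by decide, this.1⟩).2 this.2
  · exact key (i := .b2) (j := .b3) (k := .f1) (l := .d2) (m := .f2) (by decide) (by decide)
  · exact key (i := .b1) (j := .b3) (k := .f1) (l := .d1) (m := .f2) (by decide) (by decide)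
  · exact key (i := .b1) (j := .b2) (k := .f1) (l := .d2) (m := .f2) (by decide) (by decide)
  · exact key (i := .b1) (j := .b2) (k := .b3) (l := .d2) (m := .f2) (by decide) (by decide)
  · exact key (i := .b1) (j := .b2) (k := .b3) (l := .d1) (m := .f1) (by decide) (by decide)

theorem exists_oc : ∃ oc : Gen → Cd, ∀ u ∈ white, ∃ t, F.y u * zA * F.y u = xq t (oc u + Om) := by
  have : ∀ u, ∃ d : Cd, u ∈ white → ∃ t, F.y u * zA * F.y u = xq t (d + Om) := fun u => by
    by_cases h : u ∈ white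
    · obtain ⟨t, d, e⟩ := (F.wh h).exists_conj_z
      exact ⟨d + Om, fun _ => ⟨t, by rwa [add_add_cd]⟩⟩
    · exact ⟨0, fun k => absurd k h⟩
  exact Classical.axiomOfChoice this

/-- the nodes together with `d₃ = x` -/
def ext (x : Aut) : Gen → Aut
  | .d3 => x
  | .e3 => 1
  | .f3 => 1
  | n => F.y n

theorem ext_eq (x : Aut) {n : Gen} (h : n ∈ Y 5 5 2) : F.ext x n = F.y n := by
  cases n <;> first | rfl | exact absurd h (by decide)

end FiNodes

theorem nonempty_nodes : Nonempty Nodes := by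
  obtain ⟨F⟩ := nonempty_fiNodes
  obtain ⟨oc, hz⟩ := F.exists_oc
  have hw (u) (h : u ∈ white) : wt (oc u) = 8 := by
    obtain ⟨t, e⟩ := hz u h
    have := wt_add_one (oc u + Om : Cd)
    rwa [(F.wh h).wt_eq e, Submodule.coe_add, coe_Om, add_assoc, w_add_self, add_zero] at this
  have hc (u) (h : u ∈ white) (i) : Commute (F.y u) (bq (Griess.e1 i)) ↔ (oc u : Griess.W) i = 1 := by
    obtain ⟨t, e⟩ := hz u h
    rw [(F.wh h).comm_iff e, z2_eq_iff (b := 1)]; rfl
  have hi (u) (h : u ∈ white) (n) (hn : n ∈ black) :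
      (oc u).1 (F.pt n) = if Spor.coxLabel edges u n = 2 then 1 else 0 := by
    simp only [← F.comm_pt ⟨h, hn⟩, hc u h]
    rcases z2_cases ((oc u).1 (F.pt n)) with k | k <;> simp [k]
  have hl (u) (h : u ∈ white) : [Gen.b1, .b2, .b3, .d1, .f1, .d2, .f2].map (fun n => (oc u).1 (F.pt n)) =
      [Gen.b1, .b2, .b3, .d1, .f1, .d2, .f2].map fun n => if Spor.coxLabel edges u n = 2 then 1 else 0 :=
    List.map_congr_left fun n hn => hi u h n hn
  obtain ⟨j, j1, j2, j3, j4⟩ := F.fifth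
  obtain ⟨o1, o2, O, hO, oa, op, oq, or, os, ot⟩ := exists_O (hw .e1 (by decide)) (hw .e2 (by decide))
    (hw .c1 (by decide)) (hw .c2 (by decide)) (hw .c3 (by decide)) (hw .a (by decide))
    (F.nodup (l := [.b1, .b2, .b3, .d1, .f1]) (by decide)) (hl _ (by decide)) (hl _ (by decide)) (hl _ (by decide))
    (hl _ (by decide)) (hl _ (by decide)) (hl _ (by decide)) ((hc _ (by decide) j).1 j3) ((hc _ (by decide) j).1 j4) j1 j2
  have kA {u} (k : O.1 * (oc u).1 = 0) : ((oc u + Om : Cd) : Griess.W) * O = O := by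
    rw [Submodule.coe_add, coe_Om, add_mul, mul_comm, k, zero_add, one_mul]
  obtain ⟨ta, ea⟩ := hz .a (by decide)
  obtain ⟨s, hs⟩ : ∃ s, Commute (F.y .a) (xq s O) :=
    ((F.wh (by decide)).fix_or ea hO (kA oa) 0).elim (⟨0, ·⟩) fun k => ⟨1 + 0, by rwa [xq_one_add]⟩
  have h5 {u} (h : u ∈ white ∧ Spor.coxLabel edges u .a = 2 ∧ Spor.coxLabel edges u .b3 = 2) (k : O.1 * (oc u).1 = 0) :
      Commute (F.y u) (xq s O) := by
    obtain ⟨t, e⟩ := hz u h.1
    refine ((F.wh h.1).fix_or e hO (kA k) s).resolve_right fun k' => (F.wh (by decide)).sign ea (F.wh h.1)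
      (F.cox.comm (mem_of_white u h.1) (by decide) h.2.1) hs k' (i := F.pt .b3) ?_ ((F.comm_pt ⟨h.1, by decide⟩).2 h.2.2)
    rw [Submodule.coe_add, Pi.add_apply, hi .a (by decide) .b3 (by decide)]; rfl
  have h6 {n} (u) (h : n ∈ black ∧ u ∈ white ∧ Spor.coxLabel edges u n = 2) (k : O.1 * (oc u).1 = 0) :
      Commute (F.y n) (xq s O) := by
    have := congrFun k (F.pt n)
    rw [Pi.mul_apply, hi u h.2.1 n h.1, if_pos h.2.2, mul_one] at this
    rw [F.blk n h.1]; exact (xq_comm_bq.2 ((dot_e1 _ _).trans this)).symm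
  have h7 (n) (hn : n ∈ Y 5 5 2) (h : n ≠ .c3) : Commute (F.y n) (xq s O) := by
    cases n <;> first
      | exact absurd hn (by decide) | exact absurd rfl h | exact hs | exact h5 (by decide) (by assumption)
      | exact h6 .a (by decide) oa | exact h6 .e1 (by decide) op
  have hy : gp (Y 5 5 2) F.y ≤ gp (Y 5 5 3) (F.ext (xq s O)) :=
    (gp_congr fun n hn => (F.ext_eq _ hn).symm).trans_le (gp_mono (by decide))
  obtain ⟨t2, e2⟩ := hz .e2 (by decide)
  have hg : M1 ≤ gp (Y 5 5 3) (F.ext (xq s O)) := M1_le (F.gen.trans hy) hO (mem_gp (n := .d3) (by decide))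
    (F.wh (by decide)) e2 (hw .e1 (by decide)) o2
  have x2 := xq_sq (.inl hO) s
  have h8 : (F.y .c3 * xq s O) ^ 3 = 1 := by
    obtain ⟨t, e⟩ := hz .c3 (by decide)
    have W := F.wh (u := .c3) (by decide)
    have k6 : wt (O.1 * (oc .c3 + Om : Cd)) = 6 := by
      have := wt_add (O.1 * (oc .c3).1) O
      rw [mul_right_comm, w_mul_self, ot, hO] at this
      rw [Submodule.coe_add, coe_Om, mul_add, mul_one]; omega
    have k1 := W.cube_mem e hO k6 s
    have k2 (i) (h : (oc .c3).1 i = 1) := W.cube_comm_bq e hO k6 s (i := i) (by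
      rw [Submodule.coe_add, Pi.add_apply, h]; exact z2_add_self 1)
    have k3 (n) (h : n ∈ Y 5 5 2 ∧ Spor.coxLabel edges .c3 n = 2) : Commute ((F.y .c3 * xq s O) ^ 3) (F.y n) :=
      ((Commute.mul_left (F.cox.comm (by decide) h.1 h.2) (h7 n h.1 (by rintro rfl; cases h.2)).symm)).pow_left 3
    have k0 : Commute ((F.y .c3 * xq s O) ^ 3) (F.y .c3) ∧ Commute ((F.y .c3 * xq s O) ^ 3) (xq s O) ∨
        (F.y .c3 * xq s O) ^ 3 * (F.y .c3 * xq s O) ^ 3 ≠ 1 := by
      refine or_not.imp_left fun k => ?_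
      have k' := inv_eq_of_mul_eq_one_right k
      constructor <;> rw [Commute, SemiconjBy] <;> nth_rw 1 [← k'] <;>
        simp only [pow_succ, pow_zero, one_mul, _root_.mul_inv_rev, W.inv_eq, inv_eq_of_mul_eq_one_right x2, mul_assoc,
          W.uu, W.sq, mul_one]
    generalize (F.y .c3 * xq s O) ^ 3 = c at k0 k1 k2 k3
    obtain ⟨σ, _, k4⟩ := exists_ind_NV k1
    have b1 := (hi .c3 (by decide) .b1 (by decide)).trans (if_pos rfl)
    replace k4 := (k4.fix (k2 _ b1)).2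
    have k5 {u} (h : u ∈ white ∧ Spor.coxLabel edges .c3 u = 2) : sW σ (oc u) = oc u := by
      obtain ⟨t, e⟩ := hz u h.1
      have k := k3 u ⟨mem_of_white u h.1, h.2⟩
      have := k4.xq_d (s := t) (d := oc u + Om) (by
        rw [← xq, ← e]; exact ((k.mul_right (mem_NV.1 k1).1).mul_right k).mul_inv_cancel)
      exact (add_right_cancel (congrArg Subtype.val this)).symm
    have k7 : σ = 1 := by
      refine Mathieu.eq_one_of_fix_octad (Golay.mem_octads.2 ⟨Leech.support_mem_GC (oc .c3).2, hw _ (by decide)⟩)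
        (Mathieu.mem_fixS.2 fun i h => (k4.fix (k2 i ?_)).1) (p := F.pt .b3) ?_ ?_
      · exact (z2_cases _).resolve_left (Golay.mem_support₂.1 h)
      · rw [Golay.mem_support₂, hi .c3 (by decide) .b3 (by decide)]; decide
      · have := congrArg (sW σ) o1
        rw [sW_mul, sW_mul, sW_mul, k5 (by decide), k5 (by decide), k5 (by decide), k5 (by decide), o1, sW_e1] at this
        by_contra k
        have := congrFun this (F.pt .b3)
        rw [e1_self, e1_ne k] at this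
        cases this
    obtain ⟨q, rfl⟩ := ind_one_iff.1 (k7 ▸ k4)
    obtain ⟨t1, e1⟩ := hz .e1 (by decide)
    have k8 := add_mem ((F.wh (by decide)).mul_mem_code e1 k1 (k3 .e1 (by decide))) q.d.2
    rw [Submodule.coe_add, coe_Om, mul_add, mul_one, add_assoc, w_add_self, add_zero] at k8
    have k9 (i) : Commute (qV q) (bq (Griess.e1 i)) ↔ q.d.1 i = 0 :=
      ⟨fun h => by simpa using pr_eq_of_comm h, fun h => qV_comm (by simpa using h)⟩
    have k10 : Commute (qV q) (F.y .b3) := by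
      rw [F.blk _ (by decide), k9]
      by_contra k
      have a1 := wt_mul_le (oc .e1).1 q.d
      rw [hw _ (by decide), mul_comm] at a1
      rcases a1.eq_or_lt with a | a
      · have := congrFun (eq_of_wt_mul (mul_comm q.d.1 _ ▸ a.trans (hw _ (by decide)).symm)) (F.pt .b1)
        rw [Pi.mul_apply, (k9 _).1 (k2 _ b1), hi .e1 (by decide) .b1 (by decide), if_pos (by decide)] at this
        cases this
      · have := congrFun (eq_zero_of_wt_lt k8 a) (F.pt .b3)
        rw [Pi.mul_apply, hi .e1 (by decide) .b3 (by decide), if_pos (by decide), mul_one] at this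
        exact k this
    replace k0 := k0.resolve_right fun k => by
      rw [← map_mul, mul_self_eq] at k
      have := (k3 .a (by decide)).mul_left (k3 .a (by decide))
      rw [← map_mul, mul_self_eq, (zp_cases _).resolve_left k] at this
      exact (F.wh (u := .a) (by decide)).not_comm_z this.symm
    refine eq_one_of_central fun g h => comm_gp (fun n hn => ?_) (hg h)
    cases n <;> first | exact absurd hn (by decide) | exact k0.1 | exact k0.2 | exact k10 | exact k3 _ (by decide)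
  have hcox : Cox (Y 5 5 3) (F.ext (xq s O)) := fun m hm n hn => by
    have a {n} (h : n ∈ Y 5 5 2) (h' : n ≠ .c3) : (F.ext (xq s O) n * xq s O) ^ 2 = 1 := by
      rw [F.ext_eq _ h, (h7 n h h').mul_pow, sq, sq, x2, F.cox.sq h, one_mul]
    have b {x y : Aut} {k : ℕ} (h : (x * y) ^ k = 1) : (y * x) ^ k = 1 := by
      rw [← mul_inv_cancel_right (y * x) y, mul_assoc y, conj_pow, h, mul_one, mul_inv_cancel]
    rcases (by decide : ∀ m ∈ Y 5 5 3, ∀ n ∈ Y 5 5 3, m ∈ Y 5 5 2 ∧ n ∈ Y 5 5 2 ∨ m = .d3 ∧ n = .d3 ∨ m = .d3 ∧ n = .c3 ∨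
      m = .c3 ∧ n = .d3 ∨ Spor.coxLabel edges m n = 2 ∧ (m = .d3 ∧ n ∈ Y 5 5 2 ∧ n ≠ .c3 ∨ n = .d3 ∧ m ∈ Y 5 5 2 ∧ m ≠ .c3))
      m hm n hn with k | ⟨rfl, rfl⟩ | ⟨rfl, rfl⟩ | ⟨rfl, rfl⟩ | ⟨k, ⟨rfl, k'⟩ | ⟨rfl, k'⟩⟩
    · rw [F.ext_eq _ k.1, F.ext_eq _ k.2]; exact F.cox m k.1 n k.2
    · exact (pow_one _).trans x2
    · exact b h8
    · exact h8
    · rw [k]; exact b (a k'.1 k'.2)
    · rw [k]; exact a k'.1 k'.2
  have c13 : Cox (Y 3 5 5) fun n => F.ext (xq s O) (s13 n) := hcox.comp (by decide) fun m _ n _ => label_s13 m n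
  have s13' := spi_s13 (hcox.mono (by decide)) F.spi
  have h9 : f312 (F.ext (xq s O)) = 1 := (o7 (c13.mono (by decide)) s13').symm.trans
    (eq_one_of_central fun g h => comm_gp (fun n hn => by
      obtain ⟨m, hm, k, rfl⟩ := (by decide : ∀ n ∈ Y 5 5 3, ∃ m ∈ Y 3 5 5, m ≠ .e1 ∧ s13 m = n) n hn
      exact f123_comm c13 (by decide) s13' hm k) (hg h))
  have hb (n) (h : n ∈ black) := (F.ext_eq (xq s O) (mem_of_black n h)).trans (F.blk n h)
  have hu (n) (h : n ∈ white) := F.ext_eq (xq s O) (mem_of_white n h)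
  refine ⟨⟨⟨F.ext (xq s O), F.pt, hcox.mono (by decide), fun m hm n hn => ?_, F.spi, F.f1, F.f2, F.f2', fun n hn => ?_, hb,
    fun u h => ?_, F.fifth, F.gen.trans_eq (gp_congr fun n hn => (F.ext_eq _ hn).symm), F.genB.trans_eq
    (gp_congr fun n hn => (F.ext_eq _ ((by decide : ∀ n ∈ Y 3 4 2, n ∈ Y 5 5 2) n hn)).symm)⟩, O, s, oc, hO, rfl, hw,
    fun u h => ?_, fun u h => ?_, hcox, h9, fun n => ?_, hg⟩⟩
  · rw [F.ext_eq _ hm, F.ext_eq _ hn]; exact F.nd m hm n hn
  · rw [F.ext_eq _ hn]; exact F.inv n hn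
  · rw [hu u h]; exact F.wht u h
  · simp only [hu u h]; exact hc u h
  · simp only [hu u h]; exact hz u h
  · change F.ext _ n ∈ M1
    rcases (by cases n <;> decide : n ∈ white ∨ n ∈ black ∨ n = .d3 ∨ n = .e3 ∨ n = .f3) with k | k | rfl | rfl | rfl
    · rw [hu n k]; exact (F.wh k).mem_M1
    · rw [hb n k]; exact CZ_le_M1 (qV_mem _)
    exacts [CZ_le_M1 (qV_mem _), one_mem _, one_mem _]

end Cfsg.Lib.Griess.MT
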